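import Cfsg.Agent.H883.BR.Fam
import Cfsg.Agent.LieClassical.HermPerfect
import Cfsg.Agent.LieClassical.SUBasic
import Cfsg.Agent.ClassicalGeometry.UnitGenTwo
import Cfsg.Agent.S0278

/-!
# HUB BR (S5715, S5716): facts on `SU_n(q)` (helper379)

* `scalar_of_iso` : a matrix `X` over `K` with `∑ X i j v_j v_i ^ q = 0` for all isotropic vectors is scalar;
* `rho` : the natural representation over `K`; `rt` : the root elements; `irr`, `root_join`, `span_rt`;
* `oneP`, `polyDeg` : the root groups.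
-/

set_option autoImplicit false
set_option linter.unusedSectionVars false

namespace Cfsg.Agent.H379.BR

open Cfsg Cfsg.Agent.H883.BR Cfsg.Agent.LieClassical.HermBasic Cfsg.Agent.ClassicalGeometry.UnitTransv Polynomial
open scoped Matrix

section iso

variable {F₀ : Type*} [Field F₀] [Fintype F₀] {n q : ℕ} (hF : Fintype.card F₀ = q ^ 2)
include hF

/-- many elements of norm `-1` -/
theorem exists_three : ∃ S : Finset F₀, 3 ≤ S.card ∧ ∀ l ∈ S, l * l ^ q = -1 := by
  classical
  have h1 : ((-1 : F₀)) ^ q = -1 := by rw [neg_pow_q hF, one_pow]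
  have h2 := card_norm_eq hF h1 (neg_ne_zero.2 one_ne_zero)
  refine ⟨Finset.univ.filter fun l => l * l ^ q = -1, ?_, fun l hl => (Finset.mem_filter.1 hl).2⟩
  rw [Nat.card_eq_fintype_card, Fintype.card_subtype] at h2
  rw [h2]
  have := two_le hF
  omega

/-- the vector `e_i + l e_j` -/
def pv (i j : Fin n) (l : F₀) : Fin n → F₀ := fun k => if k = i then 1 else if k = j then l else 0

omit hF [Fintype F₀] in
theorem pv_other {i j k : Fin n} (l : F₀) (h1 : k ≠ i) (h2 : k ≠ j) : pv i j l k = 0 := by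
  unfold pv
  rw [if_neg h1, if_neg h2]

omit hF [Fintype F₀] in
theorem pv_fst (i j : Fin n) (l : F₀) : pv i j l i = 1 := by
  unfold pv
  rw [if_pos rfl]

omit hF [Fintype F₀] in
theorem pv_snd {i j : Fin n} (hij : i ≠ j) (l : F₀) : pv i j l j = l := by
  unfold pv
  rw [if_neg hij.symm, if_pos rfl]

theorem pv_iso {i j : Fin n} (hij : i ≠ j) {l : F₀} (hl : l * l ^ q = -1) :
    hermForm n F₀ q (pv i j l) (pv i j l) = 0 := by
  rw [herm_def, Fintype.sum_eq_add i j hij]
  · rw [pv_fst, pv_snd hij, hl, one_pow, mul_one, add_neg_cancel]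
  · rintro x ⟨h1, h2⟩
    rw [pv_other l h1 h2, zero_mul]

variable {K : Type*} [Field K] [Algebra F₀ K]

/-- **a matrix which is isotropic on all isotropic vectors is scalar** -/
theorem scalar_of_iso {X : Matrix (Fin n) (Fin n) K}
    (hX : ∀ v : Fin n → F₀, hermForm n F₀ q v v = 0 →
      ∑ i, ∑ j, X i j * algebraMap F₀ K (v j * v i ^ q) = 0) :
    ∃ c : K, X = c • (1 : Matrix (Fin n) (Fin n) K) := by
  classical
  have key : ∀ i j : Fin n, i ≠ j → X i j = 0 ∧ X i i = X j j := by
    intro i j hij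
    obtain ⟨S, hS, hS'⟩ := exists_three hF
    have h1 : ∀ l ∈ S, (C (X i j) * Polynomial.X ^ 2 + C (X i i - X j j) * Polynomial.X - C (X j i)).eval
        (algebraMap F₀ K l) = 0 := by
      intro l hl
      have h2 := hX (pv i j l) (pv_iso hF hij (hS' l hl))
      have hz : ∀ x : Fin n, x ≠ i ∧ x ≠ j → ∀ a, X a x * algebraMap F₀ K (pv i j l x * pv i j l a ^ q) = 0 := by
        rintro x ⟨h3, h4⟩ a
        rw [pv_other l h3 h4, zero_mul, map_zero, mul_zero]
      have hz' : ∀ x : Fin n, x ≠ i ∧ x ≠ j → ∑ b, X x b * algebraMap F₀ K (pv i j l b * pv i j l x ^ q) = 0 := by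
        rintro x ⟨h3, h4⟩
        refine Finset.sum_eq_zero fun b _ => ?_
        rw [pv_other l h3 h4, zero_pow_q hF, mul_zero, map_zero, mul_zero]
      rw [Fintype.sum_eq_add i j hij hz', Fintype.sum_eq_add i j hij (fun x hx => hz x hx i),
        Fintype.sum_eq_add i j hij (fun x hx => hz x hx j)] at h2
      rw [pv_fst, pv_snd hij, one_pow, one_mul, one_mul, mul_one, map_one, mul_one, hS' l hl, map_neg, map_one] at h2
      have h5 : algebraMap F₀ K l * algebraMap F₀ K (l ^ q) = -1 := by rw [← map_mul, hS' l hl, map_neg, map_one]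
      simp only [eval_add, eval_sub, eval_mul, eval_C, eval_pow, eval_X]
      linear_combination (algebraMap F₀ K l) * h2 - (X j i) * h5
    have h2 : (C (X i j) * Polynomial.X ^ 2 + C (X i i - X j j) * Polynomial.X - C (X j i)) = 0 := by
      refine Polynomial.eq_zero_of_natDegree_lt_card_of_eval_eq_zero' _ (S.image (algebraMap F₀ K)) ?_ ?_
      · intro x hx
        obtain ⟨l, hl, rfl⟩ := Finset.mem_image.1 hx
        exact h1 l hl
      · rw [Finset.card_image_of_injective _ (algebraMap F₀ K).injective]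
        refine lt_of_le_of_lt ?_ (lt_of_lt_of_le (by norm_num : 2 < 3) hS)
        compute_degree
    have h3 := congrArg (fun P : K[X] => P.coeff 2) h2
    have h4 := congrArg (fun P : K[X] => P.coeff 1) h2
    simp [coeff_X, coeff_C] at h3 h4
    exact ⟨h3, sub_eq_zero.1 h4⟩
  rcases isEmpty_or_nonempty (Fin n) with he | ⟨⟨i₀⟩⟩
  · exact ⟨0, Matrix.ext fun i => (he.false i).elim⟩
  · refine ⟨X i₀ i₀, ?_⟩
    ext i j
    rw [Matrix.smul_apply, Matrix.one_apply, smul_eq_mul]
    by_cases hij : i = j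
    · subst hij
      rw [if_pos rfl, mul_one]
      by_cases h : i = i₀
      · rw [h]
      · exact (key i i₀ h).2
    · rw [if_neg hij, mul_zero]
      exact (key i j hij).1

end iso

section rep

variable (n : ℕ) (F₀ : Type*) [Field F₀] (q : ℕ) (K : Type*) [Field K] [Algebra F₀ K]

/-- the natural representation over `K` -/
noncomputable def rho : SU n F₀ q →* Module.End K (Fin n → K) where
  toFun g := Matrix.toLin' ((g : Matrix.SpecialLinearGroup (Fin n) F₀).1.map (algebraMap F₀ K))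
  map_one' := by
    show Matrix.toLin' ((1 : Matrix (Fin n) (Fin n) F₀).map (algebraMap F₀ K)) = 1
    rw [Matrix.map_one _ (map_zero _) (map_one _), Matrix.toLin'_one]
    rfl
  map_mul' g h := by
    show Matrix.toLin' (((g : Matrix.SpecialLinearGroup (Fin n) F₀).1 *
      (h : Matrix.SpecialLinearGroup (Fin n) F₀).1).map (algebraMap F₀ K)) = _
    rw [Matrix.map_mul, Matrix.toLin'_mul]
    rfl

variable {n F₀ q K}

theorem rho_apply (g : SU n F₀ q) :
    rho n F₀ q K g = Matrix.toLin' ((g : Matrix.SpecialLinearGroup (Fin n) F₀).1.map (algebraMap F₀ K)) := rfl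

theorem rho_inj : Function.Injective (rho n F₀ q K) := by
  intro g h hgh
  have h1 := (Matrix.toLin' (R := K) (n := Fin n) (m := Fin n)).injective hgh
  apply Subtype.ext
  apply Subtype.ext
  ext i j
  have h2 := congrFun (congrFun h1 i) j
  exact (algebraMap F₀ K).injective h2

variable (K) in
/-- the vector over `K` -/
def vk (v : Fin n → F₀) : Fin n → K := fun j => algebraMap F₀ K (v j)

variable (q K) in
/-- the functional `h(·, v)` over `K` -/
def fn (v : Fin n → F₀) : (Fin n → K) →ₗ[K] K where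
  toFun w := ∑ j, w j * algebraMap F₀ K (v j ^ q)
  map_add' w w' := by
    rw [← Finset.sum_add_distrib]
    exact Finset.sum_congr rfl fun j _ => by rw [Pi.add_apply, add_mul]
  map_smul' c w := by
    rw [RingHom.id_apply, smul_eq_mul, Finset.mul_sum]
    exact Finset.sum_congr rfl fun j _ => by rw [Pi.smul_apply, smul_eq_mul, mul_assoc]

theorem fn_apply (v : Fin n → F₀) (w : Fin n → K) : fn q K v w = ∑ j, w j * algebraMap F₀ K (v j ^ q) := rfl

theorem fn_vk (v w : Fin n → F₀) : fn q K v (vk K w) = algebraMap F₀ K (hermForm n F₀ q w v) := by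
  rw [fn_apply, herm_def, map_sum]
  exact Finset.sum_congr rfl fun j _ => by rw [map_mul]; rfl

variable (q K) in
/-- the root element `c v ⊗ h(·, v)` -/
noncomputable def rt (c : F₀) (v : Fin n → F₀) : Module.End K (Fin n → K) :=
  Matrix.toLin' ((c • Matrix.vecMulVec v (fun j => v j ^ q)).map (algebraMap F₀ K))

theorem rt_apply (c : F₀) (v : Fin n → F₀) (w : Fin n → K) :
    rt q K c v w = (algebraMap F₀ K c * fn q K v w) • vk K v := by
  unfold rt
  rw [Matrix.toLin'_apply]
  funext i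
  rw [Matrix.mulVec, dotProduct, Pi.smul_apply, smul_eq_mul, fn_apply, Finset.mul_sum, Finset.sum_mul]
  refine Finset.sum_congr rfl fun j _ => ?_
  rw [Matrix.map_apply, Matrix.smul_apply, Matrix.vecMulVec_apply, smul_eq_mul, map_mul, map_mul]
  unfold vk
  ring

theorem rt_mul_mul (c : F₀) (v : Fin n → F₀) (X : Module.End K (Fin n → K)) :
    rt q K c v * X * rt q K c v = (algebraMap F₀ K c * fn q K v (X (vk K v))) • rt q K c v := by
  refine LinearMap.ext fun w => ?_
  show rt q K c v (X (rt q K c v w)) = (algebraMap F₀ K c * fn q K v (X (vk K v))) • rt q K c v w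
  rw [rt_apply c v w, map_smul, rt_apply c v, map_smul, smul_smul, smul_eq_mul]
  congr 1
  ring

theorem rt_sq (c : F₀) {v : Fin n → F₀} (hv : hermForm n F₀ q v v = 0) : rt q K c v * rt q K c v = 0 := by
  have h := rt_mul_mul (K := K) (q := q) c v 1
  rw [mul_one] at h
  rw [h]
  show (algebraMap F₀ K c * fn q K v (vk K v)) • rt q K c v = 0
  rw [fn_vk, hv, map_zero, mul_zero, zero_smul]

theorem rt_smul (c t : F₀) (v : Fin n → F₀) : rt q K (c * t) v = algebraMap F₀ K t • rt q K c v := by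
  refine LinearMap.ext fun w => ?_
  rw [LinearMap.smul_apply, rt_apply, rt_apply, smul_smul, map_mul]
  congr 1
  ring

theorem rt_rank (c : F₀) (v : Fin n → F₀) : Module.finrank K (LinearMap.range (rt q K c v)) ≤ 1 := by
  have h : LinearMap.range (rt q K c v) ≤ Submodule.span K {vk K v} := by
    rintro _ ⟨w, rfl⟩
    rw [rt_apply]
    exact Submodule.smul_mem _ _ (Submodule.mem_span_singleton_self _)
  refine (Submodule.finrank_mono h).trans ((finrank_span_le_card _).trans ?_)
  simp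

end rep

section geo

variable {F₀ : Type*} [Field F₀] [Fintype F₀] {n q : ℕ} (hF : Fintype.card F₀ = q ^ 2)
include hF

/-- connectedness of the isotropic vectors -/
theorem join {P : (Fin n → F₀) → Prop}
    (h : ∀ v w, hermForm n F₀ q v v = 0 → hermForm n F₀ q w w = 0 → hermForm n F₀ q v w ≠ 0 → P v → P w)
    {v w : Fin n → F₀} (hv : hermForm n F₀ q v v = 0) (hw : hermForm n F₀ q w w = 0) (hv0 : v ≠ 0) (hw0 : w ≠ 0)
    (hP : P v) : P w := by
  by_cases h0 : hermForm n F₀ q v w = 0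
  · obtain ⟨z, -, hz, h1, h2⟩ := LieClassical.HermGen.exists_iso_common hF (LieClassical.HermGen.mem_coordSub_top v)
      (LieClassical.HermGen.mem_coordSub_top w) hv0 hw0 hv h0
    exact h z w hz hw (fun h3 => h2 (herm_eq_zero_swap hF h3)) (h v z hv hz h1 hP)
  · exact h v w hv hw h0 hP

variable {K : Type*} [Field K] [Algebra F₀ K]

/-- the transvections over `K` -/
theorem rho_utv {v : Fin n → F₀} {c : F₀} (hv : hermForm n F₀ q v v = 0) (hc : c + c ^ q = 0) :
    rho n F₀ q K (utv hF v c hv hc) = 1 + rt q K c v := by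
  rw [rho_apply]
  show Matrix.toLin' ((unitaryTransvection n q v c).map (algebraMap F₀ K)) = _
  unfold unitaryTransvection rt
  rw [Matrix.map_add _ (map_add _), map_add, Matrix.map_one _ (map_zero _) (map_one _), Matrix.toLin'_one]
  rfl

/-- some isotropic vector is not orthogonal to a given nonzero vector over `K` -/
theorem exists_fn_ne (hn : 2 ≤ n) {w : Fin n → K} (hw : w ≠ 0) :
    ∃ v : Fin n → F₀, v ≠ 0 ∧ hermForm n F₀ q v v = 0 ∧ fn q K v w ≠ 0 := by
  classical
  by_contra hcon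
  push Not at hcon
  apply hw
  funext j
  obtain ⟨i, hij⟩ : ∃ i : Fin n, i ≠ j := by
    have : Nontrivial (Fin n) := Fin.nontrivial_iff_two_le.2 hn
    exact exists_ne j
  obtain ⟨S, hS, hS'⟩ := exists_three hF
  obtain ⟨l, hl, l', hl', hne⟩ := Finset.one_lt_card.1 (lt_of_lt_of_le (by norm_num) hS)
  have hp : ∀ l ∈ S, w i + w j * algebraMap F₀ K (l ^ q) = 0 := by
    intro l hl
    have h1 := hcon (pv i j l) (fun h => by
      have h2 := congrFun h i
      rw [pv_fst] at h2
      exact one_ne_zero h2) (pv_iso hF hij (hS' l hl))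
    rw [fn_apply, Fintype.sum_eq_add i j hij] at h1
    · rw [pv_fst, pv_snd hij, one_pow, map_one, mul_one] at h1
      exact h1
    · rintro x ⟨h3, h4⟩
      rw [pv_other l h3 h4, zero_pow_q hF, map_zero, mul_zero]
  have h1 := hp l hl
  have h2 := hp l' hl'
  have h3 : w j * (algebraMap F₀ K (l ^ q) - algebraMap F₀ K (l' ^ q)) = 0 := by linear_combination h1 - h2
  rcases mul_eq_zero.1 h3 with h4 | h4
  · exact h4
  · exfalso
    apply hne
    have h5 := (algebraMap F₀ K).injective (sub_eq_zero.1 h4)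
    exact (pow_q_inj hF).1 h5

/-- the isotropic vectors span -/
theorem span_vk (hn : 2 ≤ n) (U : Submodule K (Fin n → K))
    (h : ∀ v : Fin n → F₀, hermForm n F₀ q v v = 0 → vk K v ∈ U) : U = ⊤ := by
  classical
  rw [eq_top_iff]
  intro w _
  have hs : w = ∑ j, w j • (Pi.single j 1 : Fin n → K) := by
    rw [← pi_eq_sum_univ']
  rw [hs]
  refine Submodule.sum_mem _ fun j _ => U.smul_mem _ ?_
  obtain ⟨i, hij⟩ : ∃ i : Fin n, i ≠ j := by
    have : Nontrivial (Fin n) := Fin.nontrivial_iff_two_le.2 hn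
    exact exists_ne j
  obtain ⟨S, hS, hS'⟩ := exists_three hF
  obtain ⟨l, hl, l', hl', hne⟩ := Finset.one_lt_card.1 (lt_of_lt_of_le (by norm_num) hS)
  have h1 := U.sub_mem (h _ (pv_iso hF hij (hS' l hl))) (h _ (pv_iso hF hij (hS' l' hl')))
  have h2 : vk K (pv i j l) - vk K (pv i j l') = (algebraMap F₀ K (l - l')) • (Pi.single j 1 : Fin n → K) := by
    funext k
    rw [Pi.sub_apply, Pi.smul_apply, smul_eq_mul]
    unfold vk
    by_cases hk1 : k = i
    · rw [hk1, pv_fst, pv_fst, sub_self, Pi.single_eq_of_ne hij, mul_zero]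
    · by_cases hk2 : k = j
      · rw [hk2, pv_snd hij, pv_snd hij, Pi.single_eq_same, mul_one, map_sub]
      · rw [pv_other _ hk1 hk2, pv_other _ hk1 hk2, sub_self, Pi.single_eq_of_ne hk2, mul_zero]
  rw [h2] at h1
  have h3 : algebraMap F₀ K (l - l') ≠ 0 := by
    rw [Ne, map_eq_zero]
    exact sub_ne_zero.2 hne
  have h4 := U.smul_mem (algebraMap F₀ K (l - l'))⁻¹ h1
  rwa [smul_smul, inv_mul_cancel₀ h3, one_smul] at h4

/-- **`V` is irreducible** -/
theorem irr (hn : 2 ≤ n) : Irr (rho n F₀ q K) ⊤ := by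
  have h0 : Nonempty (Fin n) := ⟨⟨0, by omega⟩⟩
  obtain ⟨c, hc0, hc⟩ := exists_trace_zero_ne hF
  have hcK : algebraMap F₀ K c ≠ 0 := by rwa [Ne, map_eq_zero]
  refine ⟨inferInstance, fun U hU => ?_⟩
  by_cases hbot : U = ⊥
  · exact Or.inl hbot
  right
  have hmem : ∀ v : Fin n → F₀, hermForm n F₀ q v v = 0 → ∀ u ∈ U, fn q K v u ≠ 0 → vk K v ∈ U := by
    intro v hv u hu hne
    have h1 := hU (utv hF v c hv hc) (Subgroup.mem_top _) u hu
    rw [rho_utv, LinearMap.add_apply] at h1
    have h2 : rt q K c v u ∈ U := by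
      have h3 := U.sub_mem h1 hu
      rwa [Module.End.one_apply, add_sub_cancel_left] at h3
    rw [rt_apply] at h2
    have h3 := U.smul_mem (algebraMap F₀ K c * fn q K v u)⁻¹ h2
    rwa [smul_smul, inv_mul_cancel₀ (mul_ne_zero hcK hne), one_smul] at h3
  obtain ⟨u, hu, hu0⟩ := Submodule.exists_mem_ne_zero_of_ne_bot hbot
  obtain ⟨v, hv0, hv, hfv⟩ := exists_fn_ne hF hn hu0
  refine span_vk hF hn U fun w hw => ?_
  by_cases hw0 : w = 0
  · rw [hw0]
    have : vk K (0 : Fin n → F₀) = 0 := by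
      funext j
      show algebraMap F₀ K 0 = 0
      rw [map_zero]
    rw [this]
    exact U.zero_mem
  refine join hF (P := fun w => vk K w ∈ U) (fun v w _ hw hne hP => ?_) hv hw hv0 hw0 (hmem v hv u hu hfv)
  refine hmem w hw _ hP ?_
  rw [fn_vk, Ne, map_eq_zero]
  exact hne

/-- the root elements in an invariant subspace -/
theorem root_join {c : F₀} (hc0 : c ≠ 0) {S : Submodule K (Module.End K (Fin n → K))}
    (hS : ∀ v : Fin n → F₀, hermForm n F₀ q v v = 0 → ∀ X ∈ S, rt q K c v * X * rt q K c v ∈ S)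
    {v w : Fin n → F₀} (hv : hermForm n F₀ q v v = 0) (hw : hermForm n F₀ q w w = 0) (hv0 : v ≠ 0) (hw0 : w ≠ 0)
    (h : rt q K c v ∈ S) : rt q K c w ∈ S := by
  have hcK : algebraMap F₀ K c ≠ 0 := by rwa [Ne, map_eq_zero]
  refine join hF (P := fun w => rt q K c w ∈ S) (fun v w _ hw hne hP => ?_) hv hw hv0 hw0 h
  have h1 := hS w hw _ hP
  rw [rt_mul_mul, rt_apply, map_smul, fn_vk, fn_vk, smul_eq_mul] at h1
  have h2 : algebraMap F₀ K c * (algebraMap F₀ K c * algebraMap F₀ K (hermForm n F₀ q w v) *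
      algebraMap F₀ K (hermForm n F₀ q v w)) ≠ 0 := by
    refine mul_ne_zero hcK (mul_ne_zero (mul_ne_zero hcK ?_) ?_)
    · rw [Ne, map_eq_zero]
      exact fun h3 => hne (herm_eq_zero_swap hF h3)
    · rwa [Ne, map_eq_zero]
  have h3 := S.smul_mem (algebraMap F₀ K c * (algebraMap F₀ K c * algebraMap F₀ K (hermForm n F₀ q w v) *
      algebraMap F₀ K (hermForm n F₀ q v w)))⁻¹ h1
  rwa [smul_smul, inv_mul_cancel₀ h2, one_smul] at h3

/-- an endomorphism killed by all root elements on both sides is scalar -/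
theorem scalar_of_root {c : F₀} (hc0 : c ≠ 0) {X : Module.End K (Fin n → K)}
    (hX : ∀ v : Fin n → F₀, v ≠ 0 → hermForm n F₀ q v v = 0 → rt q K c v * X * rt q K c v = 0) :
    ∃ a : K, X = a • 1 := by
  classical
  have hcK : algebraMap F₀ K c ≠ 0 := by rwa [Ne, map_eq_zero]
  set M := LinearMap.toMatrix' X with hM
  obtain ⟨a, ha⟩ := scalar_of_iso (K := K) hF (X := M) fun v hv => by
    by_cases hv0 : v = 0
    · refine Finset.sum_eq_zero fun i _ => Finset.sum_eq_zero fun j _ => ?_
      rw [hv0, Pi.zero_apply, zero_mul, map_zero, mul_zero]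
    have h1 := hX v hv0 hv
    rw [rt_mul_mul, smul_eq_zero] at h1
    have h2 : rt q K c v ≠ 0 := by
      intro h3
      obtain ⟨j, hj⟩ := Function.ne_iff.1 hv0
      have h4 : fn q K v (Pi.single j 1) = algebraMap F₀ K (v j ^ q) := by
        rw [fn_apply, Finset.sum_eq_single j]
        · rw [Pi.single_eq_same, one_mul]
        · intro i _ hi
          rw [Pi.single_eq_of_ne hi, zero_mul]
        · intro h; exact absurd (Finset.mem_univ _) h
      have h5 := congrFun (LinearMap.congr_fun h3 (Pi.single j 1)) j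
      rw [rt_apply, h4, Pi.smul_apply, smul_eq_mul] at h5
      have h6 : algebraMap F₀ K (v j ^ q) ≠ 0 := by
        rw [Ne, map_eq_zero]
        exact pow_ne_zero _ hj
      have h7 : vk K v j ≠ 0 := by
        show algebraMap F₀ K (v j) ≠ 0
        rwa [Ne, map_eq_zero]
      exact mul_ne_zero (mul_ne_zero hcK h6) h7 h5
    have h3 := (mul_eq_zero.1 (h1.resolve_right h2)).resolve_left hcK
    rw [← h3, fn_apply]
    refine Finset.sum_congr rfl fun i _ => ?_
    have h4 : X (vk K v) i = ∑ j, M i j * algebraMap F₀ K (v j) := by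
      have h5 : X = Matrix.toLin' M := by rw [hM, Matrix.toLin'_toMatrix']
      rw [h5, Matrix.toLin'_apply]
      rfl
    rw [h4, Finset.sum_mul]
    exact Finset.sum_congr rfl fun j _ => by rw [map_mul, mul_assoc]
  refine ⟨a, ?_⟩
  have h5 : X = Matrix.toLin' M := by rw [hM, Matrix.toLin'_toMatrix']
  rw [h5, ha, map_smul, Matrix.toLin'_one]
  rfl

/-- the root elements span the trace zero endomorphisms -/
theorem span_rt {c : F₀} (hc0 : c ≠ 0) {X : Module.End K (Fin n → K)} (hX : LinearMap.trace K _ X = 0) :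
    X ∈ Submodule.span K {a | ∃ v : Fin n → F₀, v ≠ 0 ∧ hermForm n F₀ q v v = 0 ∧ a = rt q K c v} := by
  classical
  have hcK : algebraMap F₀ K c ≠ 0 := by rwa [Ne, map_eq_zero]
  by_contra hcon
  obtain ⟨f, hf2, hf1⟩ := Submodule.exists_le_ker_of_notMem hcon
  have hfM : ∀ M : Matrix (Fin n) (Fin n) K, f (Matrix.toLin' M) =
      ∑ i, ∑ j, M i j * f (Matrix.toLin' (Matrix.single i j 1)) := by
    intro M
    conv_lhs => rw [Matrix.matrix_eq_sum_single M]
    rw [map_sum, map_sum]
    refine Finset.sum_congr rfl fun i _ => ?_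
    rw [map_sum, map_sum]
    refine Finset.sum_congr rfl fun j _ => ?_
    have e : Matrix.single i j (M i j) = M i j • Matrix.single i j (1 : K) := by
      rw [Matrix.smul_single, smul_eq_mul, mul_one]
    rw [e, map_smul, map_smul, smul_eq_mul]
  obtain ⟨a, ha⟩ := scalar_of_iso (K := K) hF
    (X := Matrix.of fun i j => f (Matrix.toLin' (Matrix.single j i 1))) fun v hv => by
    by_cases hv0 : v = 0
    · refine Finset.sum_eq_zero fun i _ => Finset.sum_eq_zero fun j _ => ?_
      rw [hv0, Pi.zero_apply, zero_mul, map_zero, mul_zero]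
    have h1 : f (rt q K c v) = 0 := hf1 (Submodule.subset_span ⟨v, hv0, hv, rfl⟩)
    unfold rt at h1
    rw [hfM] at h1
    have h2 : ∀ i j, ((c • Matrix.vecMulVec v (fun j => v j ^ q)).map (algebraMap F₀ K)) i j *
        f (Matrix.toLin' (Matrix.single i j 1)) = algebraMap F₀ K c *
          (f (Matrix.toLin' (Matrix.single i j 1)) * algebraMap F₀ K (v i * v j ^ q)) := by
      intro i j
      rw [Matrix.map_apply, Matrix.smul_apply, Matrix.vecMulVec_apply, smul_eq_mul, map_mul]
      ring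
    simp only [h2, ← Finset.mul_sum] at h1
    have h3 := (mul_eq_zero.1 h1).resolve_left hcK
    rw [Finset.sum_comm] at h3
    exact h3
  apply hf2
  have h4 : ∀ i j, f (Matrix.toLin' (Matrix.single i j 1)) = if j = i then a else 0 := by
    intro i j
    have h5 := congrFun (congrFun ha j) i
    rw [Matrix.of_apply, Matrix.smul_apply, Matrix.one_apply, smul_eq_mul] at h5
    rw [h5]
    split_ifs
    · rw [mul_one]
    · rw [mul_zero]
  have h5 : X = Matrix.toLin' (LinearMap.toMatrix' X) := by rw [Matrix.toLin'_toMatrix']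
  rw [h5, hfM]
  simp only [h4, mul_ite, mul_zero, Finset.sum_ite_eq', Finset.mem_univ, if_true]
  rw [← Finset.sum_mul]
  have h6 : ∑ i, LinearMap.toMatrix' X i i = 0 := by
    rw [LinearMap.trace_eq_matrix_trace K (Pi.basisFun K (Fin n))] at hX
    rw [← hX]
    rfl
  rw [h6, zero_mul]

end geo

section root

variable {F₀ : Type} [Field F₀] [Fintype F₀] {n q : ℕ} (hF : Fintype.card F₀ = q ^ 2) {K : Type*} [Field K]
  [Algebra F₀ K] {F : Subfield K}
  (hFF : ∀ t : K, t ∈ F ↔ ∃ t₀ : F₀, t₀ ^ q = t₀ ∧ algebraMap F₀ K t₀ = t)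

/-- the preimage in `F₀` -/
noncomputable def pre (t : F) : F₀ := Classical.choose ((hFF t).1 t.2)

theorem pre_pow (t : F) : pre hFF t ^ q = pre hFF t := (Classical.choose_spec ((hFF t).1 t.2)).1

theorem map_pre (t : F) : algebraMap F₀ K (pre hFF t) = t := (Classical.choose_spec ((hFF t).1 t.2)).2

theorem pre_add (s t : F) : pre hFF (s + t) = pre hFF s + pre hFF t := by
  apply (algebraMap F₀ K).injective
  rw [map_add, map_pre, map_pre, map_pre]
  rfl

include hFF in
theorem pre_mem {t₀ : F₀} (h : t₀ ^ q = t₀) : algebraMap F₀ K t₀ ∈ F := (hFF _).2 ⟨t₀, h, rfl⟩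

theorem pre_map {t₀ : F₀} (h : t₀ ^ q = t₀) : pre hFF ⟨algebraMap F₀ K t₀, pre_mem hFF h⟩ = t₀ :=
  (algebraMap F₀ K).injective (map_pre hFF _)

theorem tr_pre {c : F₀} (hc : c + c ^ q = 0) (t : F) : c * pre hFF t + (c * pre hFF t) ^ q = 0 := by
  rw [mul_pow, pre_pow]
  linear_combination (pre hFF t) * hc

/-- the root groups -/
noncomputable def xr {c : F₀} (hc : c + c ^ q = 0) (v : {v : Fin n → F₀ // hermForm n F₀ q v v = 0}) (t : F) :
    SU n F₀ q := utv hF v.1 (c * pre hFF t) v.2 (tr_pre hFF hc t)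

theorem rho_xr {c : F₀} (hc : c + c ^ q = 0) (v : {v : Fin n → F₀ // hermForm n F₀ q v v = 0}) (t : F) :
    rho n F₀ q K (xr hF hFF hc v t) = 1 + (t : K) • rt q K c v.1 := by
  unfold xr
  rw [rho_utv, rt_smul, map_pre]

include hF hFF

/-- **the root groups generate** -/
theorem oneP (hn : 3 ≤ n) (h32 : ¬ (n = 3 ∧ q = 2)) {c : F₀} (hc0 : c ≠ 0) (hc : c + c ^ q = 0) :
    OneP F (fun v : {v : Fin n → F₀ // hermForm n F₀ q v v = 0} => xr hF hFF hc v) where
  add v s t := by
    apply ext_act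
    intro y
    rw [act_mul]
    unfold xr
    rw [act_utv, act_utv, act_utv, herm_add_left, herm_smul_left, v.2, mul_zero, add_zero, pre_add, mul_add, add_mul,
      add_smul, add_assoc, add_comm ((c * pre hFF s * _) • v.1)]
  gen := by
    rw [eq_top_iff, ← ClassicalGeometry.UnitGenTwo.T_eq_top hF (n := n) h32]
    unfold ClassicalGeometry.UnitGen.T
    rw [Subgroup.closure_le]
    rintro A ⟨v, b, hv, hA⟩
    rcases eq_one_or_utv hF hv hA with h | ⟨hv0, hb, h⟩
    · rw [h]
      exact Subgroup.one_mem _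
    · have ht : (b / c) ^ q = b / c := by
        have h1 : b ^ q = -b := by linear_combination hb
        have h2 : c ^ q = -c := by linear_combination hc
        rw [div_pow, h1, h2, neg_div_neg_eq]
      refine Subgroup.subset_closure ⟨⟨v, hv⟩, ⟨algebraMap F₀ K (b / c), pre_mem hFF ht⟩, ?_⟩
      rw [h]
      unfold xr
      apply ext_act
      intro y
      rw [act_utv, act_utv, pre_map hFF ht, mul_div_cancel₀ _ hc0]

omit hF hFF in
theorem polyDeg (hF : Fintype.card F₀ = q ^ 2) {c : F₀} (hc : c + c ^ q = 0)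
    (hFF : ∀ t : K, t ∈ F ↔ ∃ t₀ : F₀, t₀ ^ q = t₀ ∧ algebraMap F₀ K t₀ = t) :
    PolyDeg (rho n F₀ q K) F (fun v : {v : Fin n → F₀ // hermForm n F₀ q v v = 0} => xr hF hFF hc v) 1 := by
  intro v
  refine ⟨fun j => if j = 0 then 1 else rt q K c v.1, fun t => ?_⟩
  rw [Finset.sum_range_succ, Finset.sum_range_one, pow_zero, one_smul, pow_one]
  beta_reduce
  rw [if_pos rfl, if_neg one_ne_zero, rho_xr]

theorem rt_Rt {c : F₀} (hc : c + c ^ q = 0) {v : Fin n → F₀} (hv : hermForm n F₀ q v v = 0) :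
    Rt (rho n F₀ q K) F ⊤ (rt q K c v) := by
  refine ⟨rt_sq c hv, fun t ht => ⟨xr hF hFF hc ⟨v, hv⟩ ⟨t, ht⟩, Subgroup.mem_top _, rho_xr hF hFF hc _ _⟩⟩

end root

section misc

variable {F₀ : Type*} [Field F₀] [Fintype F₀] {n q : ℕ} (hF : Fintype.card F₀ = q ^ 2)
include hF

/-- quasisimple -/
theorem qs (hn : 3 ≤ n) (h32 : ¬ (n = 3 ∧ q = 2)) : QS (SU n F₀ q) where
  perf := LieClassical.HermPerfect.commutator_SU_eq_top hF hn h32
  nt := by
    have h := LieClassical.HermSimple.center_ne_top (q := q) hF hn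
    by_contra hcon
    rw [not_nontrivial_iff_subsingleton] at hcon
    exact h (Subsingleton.elim _ _)
  max N hN := by
    by_cases h : N ≤ Subgroup.center (SU n F₀ q)
    · exact Or.inl h
    · exact Or.inr (LieClassical.HermPerfect.normal_eq_top hF hn h32 h)

/-- the order -/
theorem card_le (hn : 1 ≤ n) : Nat.card (SU n F₀ q) ≤ 2 ^ n * q ^ (n ^ 2 - 1) := by
  have hq := two_le hF
  have h1 := Cfsg.Agent.S0278.result hF n hn
  have h2 : ∏ i ∈ Finset.range n, (if Even i then q ^ (i + 1) + 1 else q ^ (i + 1) - 1) ≤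
      ∏ i ∈ Finset.range n, (2 * q ^ (i + 1)) := by
    refine Finset.prod_le_prod' fun i _ => ?_
    have : 1 ≤ q ^ (i + 1) := Nat.one_le_pow _ _ (by omega)
    split_ifs <;> omega
  have h3 : ∏ i ∈ Finset.range n, (2 * q ^ (i + 1)) = 2 ^ n * q ^ (n * (n + 1) / 2) := by
    rw [Finset.prod_mul_distrib, Finset.prod_const, Finset.card_range, Finset.prod_pow_eq_pow_sum]
    congr 2
    rw [Finset.sum_add_distrib, Finset.sum_range_id, Finset.sum_const, Finset.card_range, smul_eq_mul, mul_one]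
    obtain ⟨m, rfl⟩ : ∃ m, n = m + 1 := ⟨n - 1, by omega⟩
    rw [Nat.add_sub_cancel]
    have e : (m + 1) * (m + 1 + 1) = (m + 1) * m + (m + 1) * 2 := by ring
    rw [e, Nat.add_mul_div_right _ _ (by norm_num)]
  have h4 : (q + 1) * Nat.card (SU n F₀ q) ≤ (q + 1) * (2 ^ n * q ^ (n ^ 2 - 1)) := by
    rw [h1]
    refine (Nat.mul_le_mul_left _ (h2.trans h3.le)).trans ?_
    have e : q ^ (n * (n - 1) / 2) * (2 ^ n * q ^ (n * (n + 1) / 2)) = q * (2 ^ n * q ^ (n ^ 2 - 1)) := by
      have e1 : n * (n - 1) / 2 + n * (n + 1) / 2 = (n ^ 2 - 1) + 1 := by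
        obtain ⟨m, rfl⟩ : ∃ m, n = m + 1 := ⟨n - 1, by omega⟩
        rw [Nat.add_sub_cancel]
        have e : (m + 1) * (m + 1 + 1) = (m + 1) * m + (m + 1) * 2 := by ring
        rw [e, Nat.add_mul_div_right _ _ (by norm_num)]
        have e2 : 2 ∣ (m + 1) * m := by
          rw [mul_comm]
          exact (Nat.even_mul_succ_self m).two_dvd
        obtain ⟨k, hk⟩ := e2
        rw [hk, Nat.mul_div_cancel_left _ (by norm_num)]
        have e3 : (m + 1) ^ 2 = (m + 1) * m + (m + 1) := by ring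
        rw [e3, hk]
        omega
      calc q ^ (n * (n - 1) / 2) * (2 ^ n * q ^ (n * (n + 1) / 2)) =
          2 ^ n * q ^ (n * (n - 1) / 2 + n * (n + 1) / 2) := by rw [pow_add]; ring
        _ = _ := by rw [e1, pow_succ]; ring
    rw [e]
    exact Nat.mul_le_mul_right _ (by omega)
  exact Nat.le_of_mul_le_mul_left h4 (by omega)

omit [Fintype F₀] hF in
/-- the diagonal torus element -/
theorem tor_spec {s : F₀} (hs : s ^ (q + 1) = 1) {i j : Fin n} (hij : i ≠ j) :
    (∏ k, (if k = i then s else if k = j then s⁻¹ else 1)) = 1 ∧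
      ∀ k : Fin n, (if k = i then s else if k = j then s⁻¹ else 1) ^ (q + 1) = 1 := by
  classical
  have hs0 : s ≠ 0 := by
    rintro rfl
    rw [zero_pow (by omega)] at hs
    exact zero_ne_one hs
  constructor
  · rw [Fintype.prod_eq_mul i j hij]
    · rw [if_pos rfl, if_neg hij.symm, if_pos rfl, mul_inv_cancel₀ hs0]
    · rintro x ⟨h1, h2⟩
      rw [if_neg h1, if_neg h2]
  · intro k
    split_ifs
    · exact hs
    · rw [inv_pow, hs, inv_one]
    · exact one_pow _

/-- an element of order `q + 1` -/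
theorem exists_order : ∃ s : F₀, s ^ (q + 1) = 1 ∧ ∀ k, 0 < k → k < q + 1 → s ^ k ≠ 1 := by
  obtain ⟨u, hu⟩ := IsCyclic.exists_generator (α := F₀ˣ)
  have hou : orderOf u = (q + 1) * (q - 1) := by
    rw [orderOf_eq_card_of_forall_mem_zpowers hu, card_units_eq hF]
  have hq := two_le hF
  have h1 : orderOf (u ^ (q - 1)) = q + 1 := by
    rw [orderOf_pow_of_dvd (by omega) (by rw [hou]; exact Dvd.intro_left _ rfl), hou, Nat.mul_div_cancel _ (by omega)]
  refine ⟨((u ^ (q - 1) : F₀ˣ) : F₀), ?_, fun k hk hk' h => ?_⟩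
  · rw [← Units.val_pow_eq_pow_val, ← h1, pow_orderOf_eq_one, Units.val_one]
  · rw [← Units.val_pow_eq_pow_val] at h
    have h2 : (u ^ (q - 1)) ^ k = 1 := Units.ext h
    have h3 := Nat.le_of_dvd hk (orderOf_dvd_of_pow_eq_one h2)
    omega

variable {K : Type*} [Field K] [Algebra F₀ K]

theorem rho_suDiag {a : Fin n → F₀} (hd : ∏ i, a i = 1) (ha : ∀ i, a i ^ (q + 1) = 1) (i : Fin n) (b : K) :
    rho n F₀ q K (LieClassical.SUBasic.suDiag q a hd ha) (Pi.single i b) = Pi.single i (algebraMap F₀ K (a i) * b) := by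
  rw [rho_apply, Matrix.toLin'_apply]
  show ((Matrix.diagonal a).map (algebraMap F₀ K)) *ᵥ Pi.single i b = _
  rw [Matrix.diagonal_map (map_zero _)]
  funext j
  rw [Matrix.mulVec_diagonal]
  by_cases h : j = i
  · rw [h, Pi.single_eq_same, Pi.single_eq_same]
  · rw [Pi.single_eq_of_ne h, Pi.single_eq_of_ne h, mul_zero]

/-- powers which are not scalar -/
theorem pw (hn : 3 ≤ n) (k : ℕ) (hk : 0 < k) (hk' : 2 * k + 1 < q) : ∃ g : SU n F₀ q, ad (rho n F₀ q K) (g ^ k) ≠ 1 := by
  classical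
  obtain ⟨s, hs, hs'⟩ := exists_order hF
  let i : Fin n := ⟨0, by omega⟩
  let j : Fin n := ⟨1, by omega⟩
  let l : Fin n := ⟨2, by omega⟩
  have hij : i ≠ j := by simp [i, j]
  have hil : l ≠ i := by simp [i, l]
  have hjl : l ≠ j := by simp [j, l]
  obtain ⟨h1, h2⟩ := tor_spec (n := n) hs hij
  refine ⟨LieClassical.SUBasic.suDiag q _ h1 h2, fun h => ?_⟩
  set g := LieClassical.SUBasic.suDiag q _ h1 h2 with hg
  have hpow : ∀ (m : ℕ) (b : K), rho n F₀ q K (g ^ m) (Pi.single i b) = Pi.single i (algebraMap F₀ K s ^ m * b) := by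
    intro m
    induction m with
    | zero => intro b; rw [pow_zero, map_one, pow_zero, one_mul]; rfl
    | succ m ih =>
      intro b
      rw [pow_succ', map_mul]
      show rho n F₀ q K g (rho n F₀ q K (g ^ m) (Pi.single i b)) = _
      rw [ih, rho_suDiag hF h1 h2, if_pos rfl, pow_succ', mul_assoc]
  have hpow' : ∀ (m : ℕ) (b : K), rho n F₀ q K (g ^ m) (Pi.single l b) = Pi.single l b := by
    intro m
    induction m with
    | zero => intro b; rw [pow_zero, map_one]; rfl
    | succ m ih =>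
      intro b
      rw [pow_succ', map_mul]
      show rho n F₀ q K g (rho n F₀ q K (g ^ m) (Pi.single l b)) = _
      rw [ih, rho_suDiag hF h1 h2, if_neg hil, if_neg hjl, map_one, one_mul]
  set X : Module.End K (Fin n → K) := Matrix.toLin' (Matrix.single i l 1) with hX
  have hXl : X (Pi.single l 1) = Pi.single i 1 := by
    rw [hX, Matrix.toLin'_apply]
    funext m
    rw [Matrix.mulVec_single, Pi.smul_apply]
    by_cases hm : m = i
    · rw [hm]; simp
    · simp [Matrix.single_apply, hm, Ne.symm hm]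
  have h3 := LinearMap.congr_fun (LinearMap.congr_fun h X) (Pi.single l 1)
  have hinv : rho n F₀ q K (g ^ k)⁻¹ (Pi.single l 1) = Pi.single l 1 := by
    have h4 : rho n F₀ q K ((g ^ k)⁻¹ * g ^ k) (Pi.single l 1) = Pi.single l 1 := by rw [inv_mul_cancel, map_one]; rfl
    rw [map_mul] at h4
    have h5 : rho n F₀ q K (g ^ k)⁻¹ (rho n F₀ q K (g ^ k) (Pi.single l 1)) = Pi.single l 1 := h4
    rwa [hpow'] at h5
  rw [ad_apply] at h3
  have h4 : rho n F₀ q K (g ^ k) (X (rho n F₀ q K (g ^ k)⁻¹ (Pi.single l 1))) = X (Pi.single l 1) := h3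
  rw [hinv, hXl, hpow, mul_one] at h4
  have h5 := congrFun h4 i
  rw [Pi.single_eq_same, Pi.single_eq_same, ← map_pow] at h5
  refine hs' k hk (by omega) ?_
  apply (algebraMap F₀ K).injective
  rw [h5, map_one]

/-- the inverse is the conjugate transpose -/
theorem inv_entry (g : SU n F₀ q) (i j : Fin n) :
    ((g⁻¹ : SU n F₀ q) : Matrix.SpecialLinearGroup (Fin n) F₀).1 i j =
      ((g : Matrix.SpecialLinearGroup (Fin n) F₀).1 j i) ^ q := by
  classical
  have h1 := herm_act g (act g⁻¹ (Pi.single j 1)) (Pi.single i 1)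
  rw [act_act_inv] at h1
  rw [herm_single_right hF, one_pow, mul_one, herm_single_left, one_mul] at h1
  have e1 : act g⁻¹ (Pi.single j 1) i = ((g⁻¹ : SU n F₀ q) : Matrix.SpecialLinearGroup (Fin n) F₀).1 i j := by
    rw [act_def]
    show (((g⁻¹ : SU n F₀ q) : Matrix.SpecialLinearGroup (Fin n) F₀).1 *ᵥ Pi.single j 1) i = _
    rw [Matrix.mulVec_single_one]
    rfl
  have e2 : act g (Pi.single i 1) j = (g : Matrix.SpecialLinearGroup (Fin n) F₀).1 j i := by
    rw [act_def]
    show ((g : Matrix.SpecialLinearGroup (Fin n) F₀).1 *ᵥ Pi.single i 1) j = _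
    rw [Matrix.mulVec_single_one]
    rfl
  rw [e1, e2] at h1
  exact h1.symm

theorem trace_rho (g : SU n F₀ q) : LinearMap.trace K _ (rho n F₀ q K g) =
    algebraMap F₀ K ((g : Matrix.SpecialLinearGroup (Fin n) F₀).1.trace) := by
  rw [rho_apply, Matrix.trace_toLin'_eq, Matrix.trace, Matrix.trace, map_sum]
  rfl

/-- the product of the traces of `g` and `g⁻¹` -/
theorem trace_mul {F : Subfield K} (hFF : ∀ t : K, t ∈ F ↔ ∃ t₀ : F₀, t₀ ^ q = t₀ ∧ algebraMap F₀ K t₀ = t)
    (g : SU n F₀ q) : LinearMap.trace K _ (rho n F₀ q K g) * LinearMap.trace K _ (rho n F₀ q K g⁻¹) ∈ F := by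
  rw [hFF]
  have h1 : ((g⁻¹ : SU n F₀ q) : Matrix.SpecialLinearGroup (Fin n) F₀).1.trace =
      ((g : Matrix.SpecialLinearGroup (Fin n) F₀).1.trace) ^ q := by
    rw [Matrix.trace, Matrix.trace, sum_pow_q hF]
    exact Finset.sum_congr rfl fun i _ => inv_entry hF g i i
  refine ⟨_, norm_pow_q hF ((g : Matrix.SpecialLinearGroup (Fin n) F₀).1.trace), ?_⟩
  rw [trace_rho hF, trace_rho hF, h1, map_mul]

/-- the size of the simple quotient -/
theorem le_card_quot (hn : 3 ≤ n) : q ≤ Nat.card (SU n F₀ q ⧸ Subgroup.center (SU n F₀ q)) := by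
  classical
  obtain ⟨c, hc0, hc⟩ := exists_trace_zero_ne hF
  obtain ⟨S, hS, hS'⟩ := exists_three hF
  obtain ⟨l, hl⟩ : S.Nonempty := Finset.card_pos.1 (by omega)
  let i : Fin n := ⟨0, by omega⟩
  let j : Fin n := ⟨1, by omega⟩
  let m : Fin n := ⟨2, by omega⟩
  have hij : i ≠ j := by simp [i, j]
  have hil : m ≠ i := by simp [i, m]
  have hjl : m ≠ j := by simp [j, m]
  have hv := pv_iso hF hij (hS' l hl)
  have hct : ∀ t : {t : F₀ // t ^ q = t}, c * t.1 + (c * t.1) ^ q = 0 := by
    intro t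
    rw [mul_pow, t.2]
    linear_combination (t.1) * hc
  have : Finite (SU n F₀ q) := inferInstance
  refine (card_fixed hF).symm.le.trans ?_
  refine Nat.card_le_card_of_injective
    (fun t : {t : F₀ // t ^ q = t} => (QuotientGroup.mk (utv hF (pv i j l) (c * t.1) hv (hct t)) :
      SU n F₀ q ⧸ Subgroup.center (SU n F₀ q))) fun s t hst => ?_
  have h1 := (QuotientGroup.eq.1 hst)
  obtain ⟨a, ha1, ha2, ha⟩ := (LieClassical.SUBasic.mem_center_SU_iff hF hn _).1 h1
  have h2 : utv hF (pv i j l) (c * t.1) hv (hct t) = utv hF (pv i j l) (c * s.1) hv (hct s) *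
      LieClassical.SUBasic.suScalar q a ha1 ha2 := by
    rw [← ha, mul_inv_cancel_left]
  have hsc : ∀ y, act (LieClassical.SUBasic.suScalar (n := n) q a ha1 ha2) y = a • y := by
    intro y
    rw [act_def, LieClassical.SUBasic.coe_suScalar]
    funext k
    rw [Matrix.mulVec_diagonal]
    rfl
  have h3 : ∀ y : Fin n → F₀, y + (c * t.1 * hermForm n F₀ q y (pv i j l)) • pv i j l =
      a • y + (c * s.1 * hermForm n F₀ q (a • y) (pv i j l)) • pv i j l := by
    intro y
    rw [← act_utv hF hv (hct t), h2, act_mul, hsc, act_utv]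
  have h4 := congrFun (h3 (Pi.single m 1)) m
  rw [herm_single_left, pv_other l hil hjl, zero_pow_q hF] at h4
  have ha' : a = 1 := by
    simp only [Pi.add_apply, Pi.smul_apply, Pi.single_eq_same, smul_eq_mul, pv_other l hil hjl, mul_zero, add_zero,
      mul_one] at h4
    exact h4.symm
  have h5 := congrFun (h3 (Pi.single i 1)) i
  rw [ha', one_smul, herm_single_left, pv_fst, one_pow, mul_one] at h5
  simp only [Pi.add_apply, Pi.smul_apply, Pi.single_eq_same, smul_eq_mul, pv_fst, mul_one] at h5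
  have h6 : c * t.1 = c * s.1 := add_left_cancel h5
  exact Subtype.ext (mul_left_cancel₀ hc0 h6).symm

end misc

end Cfsg.Agent.H379.BR
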